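import Cfsg.Agent.Lib.H8.M24Trans
import Cfsg.Agent.Lib.H93.GolayMod
import Cfsg.Prelude.Def_Spor_Mathieu

/-!
`M23` is generated by `x + 1` and the cube twist; a kernel-checkable certificate for generating pairs of `M23`
with prescribed prime orders of `x`, `y`, `xy`.
-/

set_option autoImplicit false

namespace H93.M23Gen

open Cfsg H8.GolayCode H8.GolayCount H8.GolayBasic H8.M24Mem H8.M24Chain H8.M24Trans H93.GolayMod
open scoped Pointwise

/-- the group generated by `x+1` and the cube twist -/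
def K3 : Subgroup (Equiv.Perm GolayPt) := Subgroup.closure {gα, cubeTwist}

theorem letP_mem3 : ∀ l : ℕ, l ≠ 2 → letP l ∈ K3
  | 0, _ => Subgroup.subset_closure (by simp [letP])
  | 1, _ => K3.inv_mem (Subgroup.subset_closure (by simp))
  | 2, h => absurd rfl h
  | 3, _ => Subgroup.subset_closure (by simp [letP])
  | _ + 4, _ => K3.inv_mem (Subgroup.subset_closure (by simp))

theorem wordP_mem3 (w : List ℕ) (h : ∀ l ∈ w, l ≠ 2) : wordP w ∈ K3 := by
  apply K3.list_prod_mem
  intro g hg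
  rw [List.mem_map] at hg
  obtain ⟨l, hl, rfl⟩ := hg
  exact letP_mem3 l (h l hl)

theorem lvl3_spec {ws : List (List ℕ)} {st : List (ℕ × ℕ)} {fix : List ℕ} {b : ℕ} {T : List ℕ}
    (hb : b < 24) (hfix : ∀ i ∈ fix, i < 24) (h : lvl ws st fix b T = true)
    (h2 : (ws.all fun w => w.all fun l => !Nat.beq l 2) = true) :
    ∀ t ∈ T, ∃ g ∈ Fix K3 (fix.map pt), idx (g (pt b)) = t := by
  unfold lvl at h
  rw [Bool.and_eq_true, List.all_eq_true, List.all_eq_true] at h
  obtain ⟨h1, h3⟩ := h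
  intro t ht
  have h4 : t ∈ orbL ws [b] st := by simpa using h3 t ht
  refine orbL_spec (Fix K3 (fix.map pt)) ws ?_ (pt b) st [b] ?_ t h4
  · intro w hw
    refine ⟨wordP_mem3 w ?_, ?_⟩
    · intro l hl h2'
      rw [List.all_eq_true] at h2
      have h5 := h2 w hw
      rw [List.all_eq_true] at h5
      have h6 := h5 l hl
      rw [h2'] at h6
      exact absurd h6 (by decide)
    · intro x hx
      rw [List.mem_map] at hx
      obtain ⟨i, hi, rfl⟩ := hx
      have h5 := h1 w hw
      rw [List.all_eq_true] at h5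
      have h6 := h5 i hi
      apply idx_injective
      rw [wordP_idx, idx_pt i (hfix i hi)]
      exact Nat.eq_of_beq_eq_true h6
  · intro q hq
    rw [List.mem_singleton] at hq
    subst hq
    exact ⟨1, Subgroup.one_mem _, by simp [idx_pt q hb]⟩

theorem orb_ge3 {s : List ℕ} {b : ℕ} (T : List ℕ) (hT : T.Nodup)
    (h : ∀ t ∈ T, ∃ g ∈ Fix K3 (s.map pt), idx (g (pt b)) = t) :
    T.length ≤ (Orb (Fix K3 (s.map pt)) (pt b)).ncard := by
  have h1 : (T.toFinset : Set ℕ) ⊆ idx '' (Orb (Fix K3 (s.map pt)) (pt b)) := by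
    intro t ht
    rw [Finset.mem_coe, List.mem_toFinset] at ht
    obtain ⟨g, hg, hgt⟩ := h t ht
    exact ⟨_, ⟨g, hg, rfl⟩, hgt⟩
  rw [← Set.ncard_image_of_injective _ idx_injective, ← List.toFinset_card_of_nodup hT, ← Set.ncard_coe_finset]
  exact Set.ncard_le_ncard h1 (Set.toFinite _)

theorem card_K3_ge : 10200960 ≤ Nat.card K3 := by
  have e0 : K3 = Fix K3 ([].map pt) := (Fix_nil K3).symm
  have c0 := card_Fix_cons K3 ([].map pt) (pt 23)
  have c1 := card_Fix_cons K3 ([23].map pt) (pt 0)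
  have c2 := card_Fix_cons K3 ([0, 23].map pt) (pt 1)
  have c3 := card_Fix_cons K3 ([1, 0, 23].map pt) (pt 2)
  have c4 := card_Fix_cons K3 ([2, 1, 0, 23].map pt) (pt 3)
  have c5 := card_Fix_cons K3 ([3, 2, 1, 0, 23].map pt) (pt 5)
  have c6 := card_Fix_cons K3 ([5, 3, 2, 1, 0, 23].map pt) (pt 4)
  have l0 : 1 ≤ (Orb (Fix K3 ([].map pt)) (pt 23)).ncard :=
    orb_ge3 [23] (by decide) (by
      intro t ht
      rw [List.mem_singleton] at ht
      subst ht
      exact ⟨1, Subgroup.one_mem _, by simp [idx_pt]⟩)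
  have l1 : 23 ≤ (Orb (Fix K3 ([23].map pt)) (pt 0)).ncard :=
    orb_ge3 ((List.range 24).filter (· ∉ [23])) (by decide)
      (lvl3_spec (by norm_num) (by simp) (ws := ws1) (st := st1) (by decide +kernel) (by decide +kernel))
  have l2 : 22 ≤ (Orb (Fix K3 ([0, 23].map pt)) (pt 1)).ncard :=
    orb_ge3 ((List.range 24).filter (· ∉ [0, 23])) (by decide)
      (lvl3_spec (by norm_num) (by simp) (ws := ws2) (st := st2) (by decide +kernel) (by decide +kernel))
  have l3 : 21 ≤ (Orb (Fix K3 ([1, 0, 23].map pt)) (pt 2)).ncard :=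
    orb_ge3 ((List.range 24).filter (· ∉ [1, 0, 23])) (by decide)
      (lvl3_spec (by norm_num) (by simp) (ws := ws3) (st := st3) (by decide +kernel) (by decide +kernel))
  have l4 : 20 ≤ (Orb (Fix K3 ([2, 1, 0, 23].map pt)) (pt 3)).ncard :=
    orb_ge3 ((List.range 24).filter (· ∉ [2, 1, 0, 23])) (by decide)
      (lvl3_spec (by norm_num) (by simp) (ws := ws4) (st := st4) (by decide +kernel) (by decide +kernel))
  have l5 : 3 ≤ (Orb (Fix K3 ([3, 2, 1, 0, 23].map pt)) (pt 5)).ncard :=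
    orb_ge3 [5, 14, 17] (by decide)
      (lvl3_spec (by norm_num) (by simp) (ws := ws5) (st := st5) (by decide +kernel) (by decide +kernel))
  have l6 : 16 ≤ (Orb (Fix K3 ([5, 3, 2, 1, 0, 23].map pt)) (pt 4)).ncard :=
    orb_ge3 ((List.range 24).filter (· ∉ [3, 2, 1, 0, 23, 5, 14, 17])) (by decide)
      (lvl3_spec (by norm_num) (by simp) (ws := ws6) (st := st6) (by decide +kernel) (by decide +kernel))
  have l7 : 1 ≤ Nat.card (Fix K3 ([4, 5, 3, 2, 1, 0, 23].map pt)) := Nat.card_pos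
  rw [e0, c0]
  calc 10200960 = 1 * (23 * (22 * (21 * (20 * (3 * (16 * 1)))))) := by norm_num
    _ ≤ _ := by
      refine Nat.mul_le_mul l0 ?_
      refine le_trans ?_ (le_of_eq c1.symm)
      refine Nat.mul_le_mul l1 ?_
      refine le_trans ?_ (le_of_eq c2.symm)
      refine Nat.mul_le_mul l2 ?_
      refine le_trans ?_ (le_of_eq c3.symm)
      refine Nat.mul_le_mul l3 ?_
      refine le_trans ?_ (le_of_eq c4.symm)
      refine Nat.mul_le_mul l4 ?_
      refine le_trans ?_ (le_of_eq c5.symm)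
      refine Nat.mul_le_mul l5 ?_
      refine le_trans ?_ (le_of_eq c6.symm)
      exact Nat.mul_le_mul l6 l7

theorem mem_M23_iff {g : Equiv.Perm GolayPt} : g ∈ Spor.M23 ↔ g ∈ M24 ∧ g none = none := Iff.rfl

theorem α_none : gα none = none := rfl

theorem δ_none : cubeTwist none = none := by
  apply idx_injective
  rw [tab_δ]
  decide +kernel

theorem K3_le : K3 ≤ Spor.M23 := by
  unfold K3
  rw [Subgroup.closure_le]
  intro g hg
  simp only [Set.mem_insert_iff, Set.mem_singleton_iff] at hg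
  rcases hg with rfl | rfl
  · exact ⟨α_mem, α_none⟩
  · exact ⟨δ_mem, δ_none⟩

theorem card_M23 : Nat.card Spor.M23 = 10200960 := by
  rw [← card_stabilizer none]
  apply Nat.card_congr
  refine ⟨fun g => ⟨⟨g.1, g.2.1⟩, g.2.2⟩, fun g => ⟨g.1.1, g.1.2, g.2⟩, fun _ => rfl, fun _ => rfl⟩

theorem K3_eq : K3 = Spor.M23 := by
  apply Subgroup.eq_of_le_of_card_ge K3_le
  rw [card_M23]
  exact card_K3_ge

/-! ### certificates -/

/-- evaluate a word in two tables (and their inverses) on an index -/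
def ev (cx cx' cy cy' : ℕ) : List ℕ → ℕ → ℕ
  | [], i => i
  | l :: w, i =>
    tab (if Nat.beq l 0 then cx else if Nat.beq l 1 then cx' else if Nat.beq l 2 then cy else cy')
      (ev cx cx' cy cy' w i)

theorem ev_spec {x y : Equiv.Perm GolayPt} {cx cx' cy cy' : ℕ}
    (hx : ∀ p, idx (x p) = tab cx (idx p)) (hx' : ∀ p, idx (x⁻¹ p) = tab cx' (idx p))
    (hy : ∀ p, idx (y p) = tab cy (idx p)) (hy' : ∀ p, idx (y⁻¹ p) = tab cy' (idx p)) :
    ∀ w : List ℕ, ∃ g ∈ Subgroup.closure {x, y}, ∀ p, idx (g p) = ev cx cx' cy cy' w (idx p) := by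
  have hxm : x ∈ Subgroup.closure ({x, y} : Set (Equiv.Perm GolayPt)) := Subgroup.subset_closure (by simp)
  have hym : y ∈ Subgroup.closure ({x, y} : Set (Equiv.Perm GolayPt)) := Subgroup.subset_closure (by simp)
  intro w
  induction w with
  | nil => exact ⟨1, Subgroup.one_mem _, fun _ => rfl⟩
  | cons l w ih =>
    obtain ⟨g, hg, h⟩ := ih
    unfold ev
    by_cases h0 : Nat.beq l 0 = true
    · refine ⟨x * g, Subgroup.mul_mem _ hxm hg, fun p => ?_⟩
      rw [Equiv.Perm.mul_apply, hx, h, if_pos h0]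
    · by_cases h1 : Nat.beq l 1 = true
      · refine ⟨x⁻¹ * g, Subgroup.mul_mem _ (Subgroup.inv_mem _ hxm) hg, fun p => ?_⟩
        rw [Equiv.Perm.mul_apply, hx', h, if_neg h0, if_pos h1]
      · by_cases h2 : Nat.beq l 2 = true
        · refine ⟨y * g, Subgroup.mul_mem _ hym hg, fun p => ?_⟩
          rw [Equiv.Perm.mul_apply, hy, h, if_neg h0, if_neg h1, if_pos h2]
        · refine ⟨y⁻¹ * g, Subgroup.mul_mem _ (Subgroup.inv_mem _ hym) hg, fun p => ?_⟩
          rw [Equiv.Perm.mul_apply, hy', h, if_neg h0, if_neg h1, if_neg h2]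

/-- `n`-fold iteration of a table -/
def itT (f : ℕ → ℕ) : ℕ → ℕ → ℕ
  | 0, i => i
  | n + 1, i => f (itT f n i)

theorem itT_spec {g : Equiv.Perm GolayPt} {f : ℕ → ℕ} (h : ∀ p, idx (g p) = f (idx p)) (n : ℕ) :
    ∀ p, idx ((g ^ n) p) = itT f n (idx p) := by
  induction n with
  | zero => intro p; rfl
  | succ n ih =>
    intro p
    rw [pow_succ', Equiv.Perm.mul_apply, h, ih]
    rfl

/-- the table `f` has `p`-th power the identity but is not the identity -/
def okOrd (f : ℕ → ℕ) (p : ℕ) : Bool :=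
  ((List.range 24).all fun i => Nat.beq (itT f p i) i) && ((List.range 24).any fun i => !Nat.beq (f i) i)

theorem okOrd_spec {g : Equiv.Perm GolayPt} {f : ℕ → ℕ} (h : ∀ p, idx (g p) = f (idx p)) {p : ℕ}
    (hp : p.Prime) (hok : okOrd f p = true) : orderOf g = p := by
  have hfact : Fact p.Prime := ⟨hp⟩
  unfold okOrd at hok
  rw [Bool.and_eq_true, List.all_eq_true, List.any_eq_true] at hok
  apply orderOf_eq_prime
  · ext1 q
    apply idx_injective
    rw [itT_spec h p q]
    exact Nat.eq_of_beq_eq_true (hok.1 (idx q) (List.mem_range.mpr (idx_lt q)))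
  · rintro rfl
    obtain ⟨i, hi, h2⟩ := hok.2
    have h3 := h (pt i)
    rw [Equiv.Perm.one_apply, idx_pt i (List.mem_range.mp hi)] at h3
    rw [← h3] at h2
    simp at h2

/-- the certificate check -/
def chk (p q r cx cx' cy cy' : ℕ) (wa wd : List ℕ) : Bool :=
  okT (tab cx) (tab cx') && (okT (tab cy) (tab cy') &&
  ((basisL.all fun b => Nat.beq (cw (actN (tab cx) b % 4096)) (actN (tab cx) b)) &&
  ((basisL.all fun b => Nat.beq (cw (actN (tab cy) b % 4096)) (actN (tab cy) b)) &&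
  (Nat.beq (tab cx 23) 23 && (Nat.beq (tab cy 23) 23 &&
  (okOrd (tab cx) p && (okOrd (tab cy) q && (okOrd (fun i => tab cx (tab cy i)) r &&
  (((List.range 24).all fun i => Nat.beq (ev cx cx' cy cy' wa i) (tab cα i)) &&
  ((List.range 24).all fun i => Nat.beq (ev cx cx' cy cy' wd i) (tab cδ i)))))))))))

theorem chk_spec {p q r : ℕ} (hp : p.Prime) (hq : q.Prime) (hr : r.Prime) {cx cx' cy cy' : ℕ}
    {wa wd : List ℕ} (h : chk p q r cx cx' cy cy' wa wd = true) :
    ∃ x y z : Spor.M23, orderOf x = p ∧ orderOf y = q ∧ orderOf z = r ∧ x * y * z = 1 ∧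
        Subgroup.closure {x, y} = ⊤ := by
  unfold chk at h
  simp only [Bool.and_eq_true, List.all_eq_true] at h
  obtain ⟨h1, h2, h3, h4, h5, h6, h7, h8, h9, h10, h11⟩ := h
  let x := permT (tab cx) (tab cx') h1
  let y := permT (tab cy) (tab cy') h2
  have hx : ∀ p, idx (x p) = tab cx (idx p) := permT_idx h1
  have hy : ∀ p, idx (y p) = tab cy (idx p) := permT_idx h2
  have hx' : ∀ p, idx (x⁻¹ p) = tab cx' (idx p) := by
    intro p
    exact idx_pt _ (okT_spec h1 (idx p) (idx_lt p)).2.1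
  have hy' : ∀ p, idx (y⁻¹ p) = tab cy' (idx p) := by
    intro p
    exact idx_pt _ (okT_spec h2 (idx p) (idx_lt p)).2.1
  have hn : idx (none : GolayPt) = 23 := rfl
  have hxm : x ∈ Spor.M23 := ⟨permT_mem h1 (by rw [List.all_eq_true]; exact h3), by
    show x none = none
    apply idx_injective
    rw [hx, hn]
    exact Nat.eq_of_beq_eq_true h5⟩
  have hym : y ∈ Spor.M23 := ⟨permT_mem h2 (by rw [List.all_eq_true]; exact h4), by
    show y none = none
    apply idx_injective
    rw [hy, hn]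
    exact Nat.eq_of_beq_eq_true h6⟩
  have hxy : ∀ p, idx ((x * y) p) = tab cx (tab cy (idx p)) := by
    intro p; rw [Equiv.Perm.mul_apply, hx, hy]
  refine ⟨⟨x, hxm⟩, ⟨y, hym⟩, (⟨x, hxm⟩ * ⟨y, hym⟩)⁻¹, ?_, ?_, ?_, mul_inv_cancel _, ?_⟩
  · rw [← Subgroup.orderOf_coe]
    exact okOrd_spec hx hp h7
  · rw [← Subgroup.orderOf_coe]
    exact okOrd_spec hy hq h8
  · rw [orderOf_inv, ← Subgroup.orderOf_coe]
    exact okOrd_spec (g := x * y) hxy hr h9
  · obtain ⟨a, ha, ha'⟩ := ev_spec hx hx' hy hy' wa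
    obtain ⟨d, hd, hd'⟩ := ev_spec hx hx' hy hy' wd
    have ea : a = gα := by
      ext1 p
      apply idx_injective
      rw [ha', tab_α]
      exact Nat.eq_of_beq_eq_true (h10 (idx p) (List.mem_range.mpr (idx_lt p)))
    have ed : d = cubeTwist := by
      ext1 p
      apply idx_injective
      rw [hd', tab_δ]
      exact Nat.eq_of_beq_eq_true (h11 (idx p) (List.mem_range.mpr (idx_lt p)))
    rw [ea] at ha
    rw [ed] at hd
    have hle : Spor.M23 ≤ Subgroup.closure {x, y} := by
      rw [← K3_eq]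
      unfold K3
      rw [Subgroup.closure_le]
      intro g hg
      simp only [Set.mem_insert_iff, Set.mem_singleton_iff] at hg
      rcases hg with rfl | rfl
      · exact ha
      · exact hd
    apply Subgroup.map_injective Spor.M23.subtype_injective
    rw [MonoidHom.map_closure, ← MonoidHom.range_eq_map, Subgroup.range_subtype, Set.image_pair]
    apply le_antisymm
    · rw [Subgroup.closure_le]
      intro g hg
      simp only [Set.mem_insert_iff, Set.mem_singleton_iff] at hg
      rcases hg with rfl | rfl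
      · exact hxm
      · exact hym
    · exact hle

end H93.M23Gen
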