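import Cfsg.Agent.Lib.H1.Cores
import Cfsg.Agent.Lib.H1.Solv

/-!
Involution classes with pairwise products of `p`-power order (`p` odd): given the conclusion of the `Z*`-theorem for
the involution, all products lie in `O_p(G)`.
-/

set_option autoImplicit false

namespace H93.InvClass

open Cfsg

theorem exists_fixed {α : Type*} [Finite α] (f : α → α) (hf : ∀ x, f (f x) = x) (hodd : Odd (Nat.card α)) :
    ∃ x, f x = x := by
  classical
  have := Fintype.ofFinite α
  by_contra hcon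
  have hcon' : ∀ x, f x ≠ x := fun x h => hcon ⟨x, h⟩
  let σ : Equiv.Perm α := ⟨f, f, hf, hf⟩
  have h2 : σ ^ 2 = 1 := by
    ext x; rw [sq]; exact hf x
  have h3 := Equiv.Perm.two_dvd_card_support h2
  have h4 : σ.support = Finset.univ := by
    ext x
    rw [Equiv.Perm.mem_support]
    exact ⟨fun _ => Finset.mem_univ _, fun _ => hcon' x⟩
  rw [h4, Finset.card_univ, ← Nat.card_eq_fintype_card] at h3
  rw [← Nat.not_even_iff_odd] at hodd
  exact hodd (even_iff_two_dvd.mpr h3)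

variable {G : Type*} [Group G] [Finite G]

/-- an involution normalizing `N` of odd order normalizes a Sylow `q`-subgroup of `N` -/
theorem exists_inv_sylow {d : G} (hd : orderOf d = 2) (N : Subgroup G) [N.Normal] (hNodd : Odd (Nat.card N))
    (q : ℕ) [Fact q.Prime] : ∃ P : Sylow q N, ∀ s : N, s ∈ P → MulAut.conjNormal d s ∈ P := by
  have hsylodd : Odd (Nat.card (Sylow q N)) := by
    have P0 : Sylow q N := Classical.arbitrary _
    have h1 := P0.card_dvd_index
    have h2 : (P0 : Subgroup N).index ∣ Nat.card N := (P0 : Subgroup N).index_dvd_card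
    exact Odd.of_dvd_nat hNodd (h1.trans h2)
  have hφ : (MulAut.conjNormal d : MulAut N) * MulAut.conjNormal d = 1 := by
    rw [← map_mul]
    have : d * d = 1 := by
      have := pow_orderOf_eq_one d
      rwa [hd, sq] at this
    rw [this, map_one]
  obtain ⟨P, hP⟩ := exists_fixed (fun P : Sylow q N => (MulAut.conjNormal d : MulAut N) • P)
    (fun P => by rw [smul_smul, hφ, one_smul]) hsylodd
  refine ⟨P, fun s hs => ?_⟩
  have h1 : (MulAut.conjNormal d : MulAut N) • s ∈ (MulAut.conjNormal d : MulAut N) • P :=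
    (Subgroup.smul_mem_pointwise_smul _ _ _ hs)
  rw [hP] at h1
  exact h1

theorem core {p : ℕ} (hp : p.Prime) (hp2 : p ≠ 2) (d : G) (hd : orderOf d = 2)
    (hprod : ∀ a ∈ conjugatesOf d, ∀ b ∈ conjugatesOf d, ∃ k : ℕ, orderOf (a * b) = p ^ k)
    (N : Subgroup G) [hN : N.Normal] (hNodd : Odd (Nat.card N)) (hNd : ∀ g : G, d * g * d⁻¹ * g⁻¹ ∈ N) :
    ∀ a ∈ conjugatesOf d, ∀ b ∈ conjugatesOf d, a * b ∈ pCore p G := by
  have hdd : d * d = 1 := by
    have := pow_orderOf_eq_one d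
    rwa [hd, sq] at this
  have hdinv : d⁻¹ = d := inv_eq_of_mul_eq_one_left hdd
  have hconj : ∀ g : G, g * d * g⁻¹ ∈ conjugatesOf d := fun g => isConj_iff.mpr ⟨g, rfl⟩
  have hdc : d ∈ conjugatesOf d := IsConj.refl d
  -- powers coprime
  have hcop : ∀ (q : ℕ) (_ : q.Prime) (_ : q ≠ p) (x : G) (j k : ℕ), x ^ q ^ j = 1 → orderOf x = p ^ k → x = 1 := by
    intro q hq hqp x j k h1 h2
    have h3 : orderOf x ∣ q ^ j := orderOf_dvd_of_pow_eq_one h1
    have h4 : Nat.Coprime (p ^ k) (q ^ j) := Nat.Coprime.pow _ _ ((Nat.coprime_primes hp hq).mpr (Ne.symm hqp))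
    rw [h2] at h3
    have h5 : p ^ k = 1 := Nat.eq_one_of_dvd_coprimes h4 dvd_rfl h3
    rw [h5] at h2
    exact orderOf_eq_one_iff.mp h2
  -- the centralizer of d in N contains a Sylow q-subgroup for q ≠ p
  let C : Subgroup N := (Subgroup.centralizer {d}).subgroupOf N
  have hC : ∀ q : ℕ, q.Prime → q ≠ p → ¬ q ∣ C.index := by
    intro q hq hqp hdvd
    have : Fact q.Prime := ⟨hq⟩
    obtain ⟨P, hP⟩ := exists_inv_sylow hd N hNodd q
    have hPC : (P : Subgroup N) ≤ C := by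
      intro s hs
      have h1 : MulAut.conjNormal d s * s⁻¹ ∈ P := P.mul_mem (hP s hs) (P.inv_mem hs)
      obtain ⟨j, hj⟩ := P.isPGroup' ⟨_, h1⟩
      have h2 : ((MulAut.conjNormal d s * s⁻¹ : N) : G) ^ q ^ j = 1 := by
        have := congrArg (fun t : P => ((t : N) : G)) hj
        simpa using this
      have h3 : ((MulAut.conjNormal d s * s⁻¹ : N) : G) = d * ((s : G) * d * (s : G)⁻¹) := by
        rw [Subgroup.coe_mul, MulAut.conjNormal_apply, Subgroup.coe_inv, hdinv]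
        simp only [mul_assoc]
      rw [h3] at h2
      obtain ⟨k, hk⟩ := hprod d hdc _ (hconj (s : G))
      have h4 := hcop q hq hqp _ j k h2 hk
      rw [Subgroup.mem_subgroupOf, Subgroup.mem_centralizer_singleton_iff]
      have h5 : (s : G) * d * (s : G)⁻¹ = d := by
        have h6 := congrArg (fun t => d * t) h4
        simp only [← mul_assoc, hdd, one_mul, mul_one] at h6
        simpa only [mul_assoc] using h6
      calc (s : G) * d = ((s : G) * d * (s : G)⁻¹) * (s : G) := by group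
        _ = d * (s : G) := by rw [h5]
    have h6 : C.index ∣ (P : Subgroup N).index := Subgroup.index_dvd_of_le hPC
    exact P.not_dvd_index (hdvd.trans h6)
  have hCp : ∃ n : ℕ, C.index = p ^ n := by
    refine ⟨_, Nat.eq_prime_pow_of_unique_prime_dvd (p := p) Subgroup.index_ne_zero_of_finite ?_⟩
    intro q hq hqd
    by_contra hne
    exact hC q hq hne hqd
  obtain ⟨n, hn⟩ := hCp
  have hfact : Fact p.Prime := ⟨hp⟩
  obtain ⟨P, hP⟩ := exists_inv_sylow hd N hNodd p
  have hcopidx : (P : Subgroup N).index.Coprime C.index := by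
    rw [hn]
    exact (Nat.Coprime.pow_left _ ((Nat.Prime.coprime_iff_not_dvd hp).mpr P.not_dvd_index)).symm
  -- every conjugate of d is conjugate under P
  have hPN : ∀ g : G, g ∈ N → ∃ u : N, u ∈ P ∧ g * d * g⁻¹ = (u : G) * d * (u : G)⁻¹ := by
    intro g hg
    obtain ⟨u, hu, c, hc, h⟩ := H1.Solv.exists_mul_of_coprime_index hcopidx (⟨g, hg⟩ : N)
    refine ⟨u, hu, ?_⟩
    have h1 : g = (u : G) * (c : G) := congrArg Subtype.val h
    have h2 : d * (c : G) = (c : G) * d := by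
      rw [Subgroup.mem_subgroupOf, Subgroup.mem_centralizer_singleton_iff] at hc
      exact hc.symm
    rw [h1, mul_inv_rev]
    calc (u : G) * (c : G) * d * ((c : G)⁻¹ * (u : G)⁻¹) = (u : G) * ((c : G) * d) * (c : G)⁻¹ * (u : G)⁻¹ := by group
      _ = (u : G) * (d * (c : G)) * (c : G)⁻¹ * (u : G)⁻¹ := by rw [h2]
      _ = _ := by group
  have hall : ∀ a ∈ conjugatesOf d, ∃ u : N, u ∈ P ∧ a = (u : G) * d * (u : G)⁻¹ := by
    intro a ha
    obtain ⟨g, rfl⟩ := isConj_iff.mp ha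
    set d' := g * d * g⁻¹ with hd'
    have hd'd' : d' * d' = 1 := by
      rw [hd']
      calc g * d * g⁻¹ * (g * d * g⁻¹) = g * (d * d) * g⁻¹ := by group
        _ = 1 := by rw [hdd]; group
    have hd'inv : d'⁻¹ = d' := inv_eq_of_mul_eq_one_left hd'd'
    have hd'd : d' * d ∈ N := by
      have h1 := N.inv_mem (hNd g)
      have h2 : (d * g * d⁻¹ * g⁻¹)⁻¹ = d' * d := by
        rw [hd']
        calc (d * g * d⁻¹ * g⁻¹)⁻¹ = g * d * g⁻¹ * d⁻¹ := by group
          _ = _ := by rw [hdinv]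
      rwa [h2] at h1
    have hmem : ∀ m : N, d' * (m : G) * d ∈ N := by
      intro m
      have h1 : d' * (m : G) * d'⁻¹ ∈ N := hN.conj_mem _ m.2 _
      have h2 : d' * (m : G) * d = (d' * (m : G) * d'⁻¹) * (d' * d) := by group
      rw [h2]
      exact N.mul_mem h1 hd'd
    have hwd : ∀ m m' : N, m⁻¹ * m' ∈ C →
        (⟨d' * (m : G) * d, hmem m⟩ : N)⁻¹ * ⟨d' * (m' : G) * d, hmem m'⟩ ∈ C := by
      intro m m' h
      rw [Subgroup.mem_subgroupOf, Subgroup.mem_centralizer_singleton_iff] at h ⊢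
      have h1 : ((m⁻¹ * m' : N) : G) = (m : G)⁻¹ * (m' : G) := rfl
      have h2 : (((⟨d' * (m : G) * d, hmem m⟩ : N)⁻¹ * ⟨d' * (m' : G) * d, hmem m'⟩ : N) : G) =
          (d' * (m : G) * d)⁻¹ * (d' * (m' : G) * d) := rfl
      rw [h1] at h
      have h3 : (d' * (m : G) * d)⁻¹ * (d' * (m' : G) * d) = (m : G)⁻¹ * (m' : G) := by
        calc (d' * (m : G) * d)⁻¹ * (d' * (m' : G) * d) = d⁻¹ * (((m : G)⁻¹ * (m' : G)) * d) := by group
          _ = d⁻¹ * (d * ((m : G)⁻¹ * (m' : G))) := by rw [h]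
          _ = _ := by group
      rw [h2, h3]
      exact h
    let f : N ⧸ C → N ⧸ C := Quotient.map' (fun m => (⟨d' * (m : G) * d, hmem m⟩ : N)) (by
      intro m m' h
      rw [QuotientGroup.leftRel_apply] at h ⊢
      exact hwd m m' h)
    have hff : ∀ x, f (f x) = x := by
      intro x
      obtain ⟨m, rfl⟩ := QuotientGroup.mk_surjective x
      show (QuotientGroup.mk (⟨d' * (d' * (m : G) * d) * d, _⟩ : N) : N ⧸ C) = QuotientGroup.mk m
      congr 1
      apply Subtype.ext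
      show d' * (d' * (m : G) * d) * d = m
      calc d' * (d' * (m : G) * d) * d = (d' * d') * (m : G) * (d * d) := by simp only [mul_assoc]
        _ = m := by rw [hd'd', hdd, one_mul, mul_one]
    have hodd' : Odd (Nat.card (N ⧸ C)) := Odd.of_dvd_nat hNodd C.index_dvd_card
    obtain ⟨x, hx⟩ := exists_fixed f hff hodd'
    obtain ⟨m, rfl⟩ := QuotientGroup.mk_surjective x
    have hx' : (QuotientGroup.mk m : N ⧸ C) = QuotientGroup.mk (⟨d' * (m : G) * d, hmem m⟩ : N) := hx.symm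
    rw [QuotientGroup.eq, Subgroup.mem_subgroupOf, Subgroup.mem_centralizer_singleton_iff] at hx'
    have h1 : ((m⁻¹ * (⟨d' * (m : G) * d, hmem m⟩ : N) : N) : G) = (m : G)⁻¹ * (d' * (m : G) * d) := rfl
    rw [h1] at hx'
    -- d' commutes with m d m⁻¹
    have h2 : (m : G)⁻¹ * d' * (m : G) = d * ((m : G)⁻¹ * d' * (m : G)) * d := by
      have h3 : (m : G)⁻¹ * (d' * (m : G) * d) * d = (m : G)⁻¹ * d' * (m : G) := by
        calc (m : G)⁻¹ * (d' * (m : G) * d) * d = (m : G)⁻¹ * d' * (m : G) * (d * d) := by simp only [mul_assoc]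
          _ = _ := by rw [hdd, mul_one]
      rw [h3] at hx'
      calc (m : G)⁻¹ * d' * (m : G) = d * ((m : G)⁻¹ * (d' * (m : G) * d)) := hx'
        _ = _ := by simp only [mul_assoc]
    obtain ⟨k, hk⟩ := hprod _ ha _ (hconj (m : G))
    have h4 : (d' * ((m : G) * d * (m : G)⁻¹)) ^ 2 ^ 1 = 1 := by
      have h5 : (m : G) * d * (m : G)⁻¹ * d' * ((m : G) * d * (m : G)⁻¹) = d' := by
        calc (m : G) * d * (m : G)⁻¹ * d' * ((m : G) * d * (m : G)⁻¹) =
            (m : G) * (d * ((m : G)⁻¹ * d' * (m : G)) * d) * (m : G)⁻¹ := by simp only [mul_assoc]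
          _ = (m : G) * ((m : G)⁻¹ * d' * (m : G)) * (m : G)⁻¹ := by rw [← h2]
          _ = d' := by group
      rw [pow_one, sq]
      calc d' * ((m : G) * d * (m : G)⁻¹) * (d' * ((m : G) * d * (m : G)⁻¹)) =
          d' * ((m : G) * d * (m : G)⁻¹ * d' * ((m : G) * d * (m : G)⁻¹)) := by simp only [mul_assoc]
        _ = d' * d' := by rw [h5]
        _ = 1 := hd'd'
    have h6 := hcop 2 Nat.prime_two (Ne.symm hp2) _ 1 k h4 hk
    have h7 : d' = (m : G) * d * (m : G)⁻¹ := by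
      have h8 := congrArg (fun t => d' * t) h6
      simp only [← mul_assoc, hd'd', one_mul, mul_one] at h8
      rw [← h8]
    rw [h7]
    exact hPN _ m.2
  have hprodP : ∀ a ∈ conjugatesOf d, ∀ b ∈ conjugatesOf d, ∃ t : N, t ∈ P ∧ a * b = (t : G) := by
    intro a ha b hb
    obtain ⟨u, hu, rfl⟩ := hall a ha
    obtain ⟨v, hv, rfl⟩ := hall b hb
    refine ⟨u * (MulAut.conjNormal d (u⁻¹ * v)) * v⁻¹,
      P.mul_mem (P.mul_mem hu (hP _ (P.mul_mem (P.inv_mem hu) hv))) (P.inv_mem hv), ?_⟩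
    rw [Subgroup.coe_mul, Subgroup.coe_mul, MulAut.conjNormal_apply, Subgroup.coe_mul, Subgroup.coe_inv,
      Subgroup.coe_inv, hdinv]
    simp only [mul_assoc]
  -- the subgroup generated by the products
  let S : Set G := {x | ∃ a ∈ conjugatesOf d, ∃ b ∈ conjugatesOf d, a * b = x}
  let K : Subgroup G := Subgroup.closure S
  have hKP : K ≤ (P : Subgroup N).map N.subtype := by
    rw [Subgroup.closure_le]
    rintro x ⟨a, ha, b, hb, rfl⟩
    obtain ⟨t, ht, h⟩ := hprodP a ha b hb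
    exact ⟨t, ht, h.symm⟩
  have hKn : K.Normal := by
    constructor
    intro x hx g
    have h1 : ∀ y ∈ conjugatesOf d, g * y * g⁻¹ ∈ conjugatesOf d := by
      intro y hy
      exact IsConj.trans hy (isConj_iff.mpr ⟨g, rfl⟩)
    induction hx using Subgroup.closure_induction with
    | mem x hx =>
      obtain ⟨a, ha, b, hb, rfl⟩ := hx
      exact Subgroup.subset_closure ⟨g * a * g⁻¹, h1 a ha, g * b * g⁻¹, h1 b hb, by group⟩
    | one => rw [mul_one, mul_inv_cancel]; exact Subgroup.one_mem _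
    | mul x y _ _ hx hy =>
      have : g * (x * y) * g⁻¹ = (g * x * g⁻¹) * (g * y * g⁻¹) := by group
      rw [this]; exact Subgroup.mul_mem _ hx hy
    | inv x _ hx =>
      have : g * x⁻¹ * g⁻¹ = (g * x * g⁻¹)⁻¹ := by group
      rw [this]; exact Subgroup.inv_mem _ hx
  intro a ha b hb
  apply H1.Cores.le_pCore hKn
  · exact (P.isPGroup'.map N.subtype).to_le hKP
  · exact Subgroup.subset_closure ⟨a, ha, b, hb, rfl⟩

/-- the hypothesis of the `Z*`-theorem for such an involution -/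
theorem isolated {p : ℕ} (hp : p.Prime) (hp2 : p ≠ 2) (d : G) (hd : orderOf d = 2)
    (hprod : ∀ a ∈ conjugatesOf d, ∀ b ∈ conjugatesOf d, ∃ k : ℕ, orderOf (a * b) = p ^ k)
    (P : Sylow 2 G) (hdP : d ∈ P) : ∀ g : G, g * d * g⁻¹ ∈ P → g * d * g⁻¹ = d := by
  intro g hg
  have hdd : d * d = 1 := by
    have := pow_orderOf_eq_one d
    rwa [hd, sq] at this
  obtain ⟨k, hk⟩ := hprod (g * d * g⁻¹) (isConj_iff.mpr ⟨g, rfl⟩) d (IsConj.refl d)
  obtain ⟨j, hj⟩ := P.isPGroup' ⟨_, P.mul_mem hg hdP⟩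
  have h2 : (g * d * g⁻¹ * d) ^ 2 ^ j = 1 := by
    have := congrArg Subtype.val hj
    simpa using this
  have h3 : orderOf (g * d * g⁻¹ * d) ∣ 2 ^ j := orderOf_dvd_of_pow_eq_one h2
  have h4 : Nat.Coprime (p ^ k) (2 ^ j) :=
    Nat.Coprime.pow _ _ ((Nat.coprime_primes hp Nat.prime_two).mpr hp2)
  rw [hk] at h3
  have h5 : p ^ k = 1 := Nat.eq_one_of_dvd_coprimes h4 dvd_rfl h3
  rw [h5] at hk
  have h6 := orderOf_eq_one_iff.mp hk
  calc g * d * g⁻¹ = g * d * g⁻¹ * (d * d) := by rw [hdd, mul_one]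
    _ = (g * d * g⁻¹ * d) * d := by rw [mul_assoc (g * d * g⁻¹) d d]
    _ = d := by rw [h6, one_mul]

/-- the class statement from the conclusion of the `Z*`-theorem -/
theorem of_zstar {p : ℕ} (hp : p.Prime) (hp2 : p ≠ 2) (d : G) (hd : orderOf d = 2)
    (hprod : ∀ a ∈ conjugatesOf d, ∀ b ∈ conjugatesOf d, ∃ k : ℕ, orderOf (a * b) = p ^ k)
    (hZ : ∀ (P : Sylow 2 G) (u : G), orderOf u = 2 → u ∈ P → (∀ g : G, g * u * g⁻¹ ∈ P → g * u * g⁻¹ = u) →
      ∃ N : Subgroup G, N.Normal ∧ Odd (Nat.card N) ∧ ∀ g : G, (u * g * u⁻¹ * g⁻¹) ∈ N) :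
    ∀ a ∈ conjugatesOf d, ∀ b ∈ conjugatesOf d, a * b ∈ pCore p G := by
  have hfact : Fact (Nat.Prime 2) := ⟨Nat.prime_two⟩
  obtain ⟨P, hP⟩ := (IsPGroup.of_card (p := 2) (n := 1) (G := Subgroup.zpowers d) (by
    rw [Nat.card_zpowers, hd, pow_one])).exists_le_sylow
  have hdP : d ∈ P := hP (Subgroup.mem_zpowers d)
  obtain ⟨N, hN, hodd, hNd⟩ := hZ P d hd hdP (isolated hp hp2 d hd hprod P hdP)
  exact core hp hp2 d hd hprod N hodd hNd

end H93.InvClass
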